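import Groth.Agent.L08.Chev.Gaff
import Groth.Agent.L08.Albanese.EtaleDescent
import Groth.Agent.L08.Albanese.FullyFaithful
import Groth.Agent.L22.GeomConn.Galois
import Groth.Agent.L23.AffineMor
import Groth.Agent.S0086

/-!
# The affine part over a perfect field
-/

set_option autoImplicit false
set_option backward.isDefEq.respectTransparency.types false
set_option linter.style.haveILetI false
set_option linter.unusedSectionVars false

universe u

open CategoryTheory CategoryTheory.Limits MonoidalCategory CartesianMonoidalCategory MonObj GrpObj AlgebraicGeometry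
open Groth.L08.Chev

noncomputable section

namespace Groth.L08.ChevPerf

variable {k : Type u} [Field k]

/-- morphisms from reduced schemes factor through closed immersions containing their image -/
theorem exists_factor_range {T R X : Over (Spec (CommRingCat.of k))} [IsReduced T.left] (r : R ⟶ X)
    [IsClosedImmersion r.left] (m : T ⟶ X) (h : Set.range m.left ⊆ Set.range r.left) : ∃ m' : T ⟶ R, m' ≫ r = m := by
  haveI : Surjective (pullback.snd r.left m.left) := ⟨fun t => by
    obtain ⟨x, hx⟩ := h ⟨t, rfl⟩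
    obtain ⟨w, -, hw⟩ := Scheme.Pullback.exists_preimage_pullback x t hx
    exact ⟨w, hw⟩⟩
  haveI : IsIso (pullback.snd r.left m.left) := isIso_of_isClosedImmersion_of_surjective _
  refine ⟨Over.homMk (CategoryTheory.inv (pullback.snd r.left m.left) ≫ pullback.fst r.left m.left) ?_, ?_⟩
  · rw [← Over.w r, Category.assoc, pullback.condition_assoc, IsIso.inv_hom_id_assoc, Over.w m]
  · refine Over.OverMorphism.ext ?_
    show (CategoryTheory.inv (pullback.snd r.left m.left) ≫ pullback.fst r.left m.left) ≫ r.left = m.left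
    rw [Category.assoc, pullback.condition, IsIso.inv_hom_id_assoc]

section Twist

variable {S S' : Scheme.{u}}

theorem bc_comp_fst {σ : S' ⟶ S'} {e : S' ⟶ S} (hc : σ ≫ e = e) (G : Over S) :
    ((Over.pullbackComp σ e).inv.app G ≫ eqToHom (congrArg (fun φ => Red.bc φ G) hc)).left ≫
      pullback.fst G.hom e = pullback.fst (Red.bc e G).hom σ ≫ pullback.fst G.hom e := by
  have gen : ∀ (h : S' ⟶ S) (hc : σ ≫ e = h),
      ((Over.pullbackComp σ e).inv.app G ≫ eqToHom (congrArg (fun φ => Red.bc φ G) hc)).left ≫
        pullback.fst G.hom h = pullback.fst (Red.bc e G).hom σ ≫ pullback.fst G.hom e := by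
    rintro h rfl
    rw [eqToHom_refl, Category.comp_id]
    simp [Over.pullbackComp, Over.mapPullbackAdj, conjugateIsoEquiv, Over.mapComp, conjugateEquiv, mateEquiv, TwoSquare.natTrans, Adjunction.comp]
    erw [pullback.lift_fst]
    erw [pullback.lift_fst_assoc]
    simp only [Category.assoc]
    erw [pullback.lift_fst_assoc]
    erw [pullback.lift_fst_assoc]
    rw [Category.id_comp]
  exact gen e hc

end Twist

variable {K : Type u} [Field K] [Algebra k K]

theorem smooth_bc (G : Over (Spec (CommRingCat.of k))) [Smooth G.hom] : Smooth (Red.bc (AbVar.ext k K) G).hom :=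
  inferInstanceAs (Smooth (pullback.snd G.hom (AbVar.ext k K)))

theorem sigma_comp (σ : K ≃ₐ[k] K) :
    Spec.map (CommRingCat.ofHom (σ : K →ₐ[k] K).toRingHom) ≫ AbVar.ext k K = AbVar.ext k K := by
  show Spec.map _ ≫ Spec.map _ = Spec.map _
  rw [← Spec.map_comp]
  congr 1
  exact CommRingCat.hom_ext (RingHom.ext fun x => σ.commutes x)

variable [IsAlgClosed K] {G : Over (Spec (CommRingCat.of k))} [GrpObj G] [Smooth G.hom] [QuasiCompact G.hom]
  [ConnectedSpace G.left] {N : Over (Spec (CommRingCat.of K))} [GrpObj N] (i : N ⟶ Red.bc (AbVar.ext k K) G) [IsMonHom i]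
  [IsClosedImmersion i.left] [Smooth N.hom] [ConnectedSpace N.left] [IsAffine N.left] (hN : AlgGrp.IsNormalHom i)
  (hNmax : ∀ (N' : Over (Spec (CommRingCat.of K))) [GrpObj N'] (i' : N' ⟶ Red.bc (AbVar.ext k K) G) [IsMonHom i']
    [IsClosedImmersion i'.left] [Smooth N'.hom] [ConnectedSpace N'.left] [IsAffine N'.left],
    AlgGrp.IsNormalHom i' → ∃ f : N' ⟶ N, f ≫ i = i')

include hN hNmax in
theorem twist_aux [Smooth (Red.bc (AbVar.ext k K) G).hom] [QuasiCompact (Red.bc (AbVar.ext k K) G).hom]
    [ConnectedSpace (Red.bc (AbVar.ext k K) G).left] {H Y : Over (Spec (CommRingCat.of K))} [GrpObj H] [GrpObj Y]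
    [Smooth H.hom] [ConnectedSpace H.left] [IsAffine H.left] (m : H ⟶ Y) (c : Y ⟶ Red.bc (AbVar.ext k K) G)
    (hm : IsMonHom m) (hc : IsMonHom c) (w : H.left) : (m ≫ c).left w ∈ Set.range i.left := by
  haveI : IsMonHom (m ≫ c) := inferInstance
  obtain ⟨z, hz⟩ := exists_factor_affine i hN hNmax (m ≫ c)
  exact ⟨z.left w, congr(($hz).left w)⟩

include hN hNmax in
/-- the twist of the affine part lies in the affine part -/
theorem exists_twist [Smooth (Red.bc (AbVar.ext k K) G).hom] [QuasiCompact (Red.bc (AbVar.ext k K) G).hom]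
    [ConnectedSpace (Red.bc (AbVar.ext k K) G).left] (σs : Spec (CommRingCat.of K) ⟶ Spec (CommRingCat.of K))
    [IsIso σs] (hc : σs ≫ AbVar.ext k K = AbVar.ext k K) (y : N.left) :
    ∃ (T : Scheme.{u}) (h : T ⟶ (Red.bc (AbVar.ext k K) G).left) (π : T ⟶ N.left) (w : T),
      π w = y ∧ h w ∈ Set.range i.left ∧
      h ≫ pullback.fst G.hom (AbVar.ext k K) = (π ≫ i.left) ≫ pullback.fst G.hom (AbVar.ext k K) ∧
      h ≫ pullback.snd G.hom (AbVar.ext k K) ≫ σs = (π ≫ i.left) ≫ pullback.snd G.hom (AbVar.ext k K) := by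
  haveI : IsIso (pullback.fst N.hom σs) := inferInstance
  haveI : IsAffine (Red.bc σs N).left := IsAffine.of_isIso (pullback.fst N.hom σs)
  haveI : Smooth (Red.bc σs N).hom := inferInstanceAs (Smooth (pullback.snd N.hom σs))
  haveI hsur : Surjective (CategoryTheory.inv (pullback.fst N.hom σs)) := inferInstance
  haveI : ConnectedSpace (Red.bc σs N).left :=
    hsur.1.connectedSpace (CategoryTheory.inv (pullback.fst N.hom σs)).continuous
  have hm : IsMonHom ((Over.pullback σs).map i) := inferInstance
  have hm' := Groth.L08.Albanese.isMonHom_bc_comp hc G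
  have hmem := twist_aux i hN hNmax (Y := Red.bc σs (Red.bc (AbVar.ext k K) G)) ((Over.pullback σs).map i) _ hm hm'
  obtain ⟨w, hw⟩ := (pullback.fst N.hom σs).surjective y
  refine ⟨_, ((Over.pullback σs).map i ≫ ((Over.pullbackComp σs (AbVar.ext k K)).inv.app G ≫
    eqToHom (congrArg (fun φ => Red.bc φ G) hc))).left, pullback.fst N.hom σs, w, hw, ?_, ?_, ?_⟩
  · exact hmem w
  · rw [Over.comp_left, Category.assoc, bc_comp_fst hc G, ← Category.assoc]
    congr 1
    exact pullback.lift_fst _ _ _
  · rw [← Category.assoc]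
    erw [Over.w ((Over.pullback σs).map i ≫ ((Over.pullbackComp σs (AbVar.ext k K)).inv.app G ≫
      eqToHom (congrArg (fun φ => Red.bc φ G) hc)))]
    rw [Category.assoc]
    erw [Over.w i]
    exact pullback.condition.symm

theorem galAct_injective (σ : K ≃ₐ[k] K) {X : Scheme.{u}} [X.Over (Spec (CommRingCat.of k))] :
    Function.Injective (Curv2.galAct k X K σ).base := by
  have hinv : Curv2.galAct k X K σ ≫ Curv2.galAct k X K σ.symm = 𝟙 _ := by
    apply pullback.hom_ext
    · rw [Category.assoc, Category.id_comp]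
      erw [pullback.lift_fst, Category.comp_id, pullback.lift_fst, Category.comp_id]
    · rw [Category.assoc, Category.id_comp]
      erw [pullback.lift_snd, ← Category.assoc, pullback.lift_snd, Category.assoc]
      rw [← Spec.map_comp, ← CommRingCat.ofHom_comp]
      refine Eq.trans ?_ (Category.comp_id _)
      congr 1
      rw [← Spec.map_id]
      congr 1
      ext x
      exact σ.apply_symm_apply x
  intro a b h
  have h2 := congrArg (Curv2.galAct k X K σ.symm).base h
  exact (congr(($hinv) a)).symm.trans (h2.trans congr(($hinv) b))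

theorem isIso_specMap (σ : K ≃ₐ[k] K) : IsIso (Spec.map (CommRingCat.ofHom (σ : K →ₐ[k] K).toRingHom)) := by
  haveI : IsIso (CommRingCat.ofHom (σ : K →ₐ[k] K).toRingHom) :=
    inferInstanceAs (IsIso σ.toRingEquiv.toCommRingCatIso.hom)
  infer_instance

include hN hNmax in
/-- the affine part is stable under the Galois action -/
theorem galois_stable [Smooth (Red.bc (AbVar.ext k K) G).hom] [QuasiCompact (Red.bc (AbVar.ext k K) G).hom]
    [ConnectedSpace (Red.bc (AbVar.ext k K) G).left] (σ : K ≃ₐ[k] K) :
    letI : G.left.Over (Spec (CommRingCat.of k)) := ⟨G.hom⟩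
    ∀ y : N.left, ∀ b : (Red.bc (AbVar.ext k K) G).left,
      (Curv2.galAct k G.left K σ).base b = i.left y → b ∈ Set.range i.left := by
  letI : G.left.Over (Spec (CommRingCat.of k)) := ⟨G.hom⟩
  intro y b hb
  haveI := isIso_specMap σ
  obtain ⟨T, h, π, w, hw, hmem, hfst, hsnd⟩ := exists_twist i hN hNmax _ (sigma_comp σ) y
  have hgal : h ≫ Curv2.galAct k G.left K σ = π ≫ i.left := by
    apply pullback.hom_ext
    · erw [Category.assoc, pullback.lift_fst, Category.comp_id]
      exact hfst
    · erw [Category.assoc, pullback.lift_snd]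
      exact hsnd
  have key : h w = b := by
    refine galAct_injective σ ?_
    rw [hb, ← hw]
    exact congr(($hgal) w)
  rw [← key]; exact hmem

end Groth.L08.ChevPerf
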