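import Groth.Agent.L08.ChevPerf.Descend

/-!
# Chevalley's theorem over a perfect field
-/

set_option autoImplicit false
set_option backward.isDefEq.respectTransparency.types false
set_option linter.style.haveILetI false
set_option linter.unusedSectionVars false

universe u

open CategoryTheory CategoryTheory.Limits MonoidalCategory CartesianMonoidalCategory MonObj GrpObj AlgebraicGeometry
open Groth.L08.Chev

noncomputable section

namespace Groth.L08.ChevPerf

variable {k K : Type u} [Field k] [Field K] [Algebra k K]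

theorem ext_props : Surjective (AbVar.ext k K) ∧ Flat (AbVar.ext k K) ∧ QuasiCompact (AbVar.ext k K) :=
  ⟨⟨fun x => ⟨IsLocalRing.closedPoint K, Subsingleton.elim (α := PrimeSpectrum k) _ _⟩⟩, inferInstance, inferInstance⟩

/-- a property descends from the base change to a field extension -/
theorem descends (P : MorphismProperty Scheme.{u}) [P.DescendsAlong (@Surjective ⊓ @Flat ⊓ @QuasiCompact)]
    (X : Over (Spec (CommRingCat.of k))) (h : P (Red.bc (AbVar.ext k K) X).hom) : P X.hom :=
  MorphismProperty.of_isPullback_of_descendsAlong (P := P) (Q := @Surjective ⊓ @Flat ⊓ @QuasiCompact)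
    (IsPullback.of_hasPullback X.hom (AbVar.ext k K)).flip ⟨⟨ext_props.1, ext_props.2.1⟩, ext_props.2.2⟩ h

theorem connectedSpace_bc (G : Over (Spec (CommRingCat.of k))) [GrpObj G] [Smooth G.hom] [ConnectedSpace G.left] :
    ConnectedSpace (Red.bc (AbVar.ext k K) G).left := by
  haveI := Groth.L08.Albanese.geometricallyIntegral_of_smooth G
  haveI : GeometricallyIntegral (Red.bc (AbVar.ext k K) G).hom :=
    inferInstanceAs (GeometricallyIntegral (pullback.snd G.hom (AbVar.ext k K)))
  exact GeometricallyConnected.connectedSpace_of_subsingleton (Red.bc (AbVar.ext k K) G).hom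

theorem isReduced_bc [PerfectField k] (X : Over (Spec (CommRingCat.of k))) [IsReduced X.left] :
    IsReduced (Red.bc (AbVar.ext k K) X).left :=
  Groth.L25.GeomRed.isReduced_pullback X.hom (AbVar.ext k K)

theorem range_bc_map {D A : Over (Spec (CommRingCat.of k))} (d : D ⟶ A) :
    Set.range ((Over.pullback (AbVar.ext k K)).map d).left =
      (pullback.fst A.hom (AbVar.ext k K)) ⁻¹' Set.range d.left := by
  have sq := Groth.L08.Albanese.isPullback_bc_map (K := K) d
  ext x
  constructor
  · rintro ⟨y, rfl⟩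
    exact ⟨pullback.fst D.hom (AbVar.ext k K) y, congr(($sq.w) y).symm⟩
  · rintro ⟨y, hy⟩
    obtain ⟨w, hw, -⟩ := Scheme.Pullback.exists_preimage_pullback (f := pullback.fst A.hom (AbVar.ext k K))
      (g := d.left) x y hy.symm
    exact ⟨sq.isoPullback.inv w, by
      rw [← Scheme.Hom.comp_apply, IsPullback.isoPullback_inv_fst]; exact hw⟩

/-- the descended affine part -/
theorem exists_descended [PerfectField k] (G : Over (Spec (CommRingCat.of k))) [GrpObj G] [Smooth G.hom]
    [QuasiCompact G.hom] [ConnectedSpace G.left] {N : Over (Spec (CommRingCat.of (SeparableClosure k)))} [GrpObj N]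
    (i : N ⟶ Red.bc (AbVar.ext k (SeparableClosure k)) G) [IsMonHom i]
    [IsClosedImmersion i.left] [IsReduced N.left] (hN : AlgGrp.IsNormalHom i)
    (hstab : ∀ σ : SeparableClosure k ≃ₐ[k] SeparableClosure k,
      letI : G.left.Over (Spec (CommRingCat.of k)) := ⟨G.hom⟩
      ∀ y : N.left, ∀ b : (Red.bc (AbVar.ext k (SeparableClosure k)) G).left,
        (Curv2.galAct k G.left (SeparableClosure k) σ).base b = i.left y → b ∈ Set.range i.left) :
    ∃ (L : Over (Spec (CommRingCat.of k))) (_ : GrpObj L) (l : L ⟶ G), IsMonHom l ∧ IsClosedImmersion l.left ∧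
      IsReduced L.left ∧ AlgGrp.IsNormalHom l ∧
      ∃ (f : Red.bc (AbVar.ext k (SeparableClosure k)) L ⟶ N) (g : N ⟶ Red.bc (AbVar.ext k (SeparableClosure k)) L),
        f ≫ i = (Over.pullback (AbVar.ext k (SeparableClosure k))).map l ∧
        g ≫ (Over.pullback (AbVar.ext k (SeparableClosure k))).map l = i := by
  letI : G.left.Over (Spec (CommRingCat.of k)) := ⟨G.hom⟩
  let F := Over.pullback (AbVar.ext k (SeparableClosure k))
  let π : (Red.bc (AbVar.ext k (SeparableClosure k)) G).left ⟶ G.left :=
    pullback.fst G.hom (AbVar.ext k (SeparableClosure k))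
  haveI : IsIntegralHom (AbVar.ext k (SeparableClosure k)) := by
    show IsIntegralHom (Spec.map _)
    rw [IsIntegralHom.SpecMap_iff]
    exact fun x => Algebra.IsIntegral.isIntegral x
  haveI : IsIntegralHom π := MorphismProperty.pullback_fst (P := @IsIntegralHom) _ _ ‹_›
  let Zc : TopologicalSpace.Closeds G.left :=
    ⟨π '' Set.range i.left, π.isClosedMap _ i.left.isClosedEmbedding.isClosed_range⟩
  let I := Scheme.IdealSheafData.vanishingIdeal Zc
  haveI : IsReduced I.subscheme := Groth.L18.isReduced_vanishingIdeal_subscheme Zc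
  let L : Over (Spec (CommRingCat.of k)) := Over.mk (I.subschemeι ≫ G.hom)
  let l : L ⟶ G := Over.homMk I.subschemeι
  haveI : IsClosedImmersion l.left := inferInstanceAs (IsClosedImmersion I.subschemeι)
  haveI : IsReduced L.left := ‹IsReduced I.subscheme›
  haveI : Mono l := Over.mono_of_mono_left l
  have hrl : Set.range l.left = π '' Set.range i.left := by
    show Set.range I.subschemeι = _
    rw [I.range_subschemeι, Scheme.IdealSheafData.coe_support_vanishingIdeal]
    rfl
  haveI : IsClosedImmersion (F.map l).left :=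
    MorphismProperty.of_isPullback (P := @IsClosedImmersion) (Groth.L08.Albanese.isPullback_bc_map l).flip ‹_›
  haveI : Mono i := Over.mono_of_mono_left i
  have hrange : Set.range (F.map l).left = Set.range i.left := by
    rw [range_bc_map, hrl]
    refine Set.Subset.antisymm ?_ (Set.subset_preimage_image _ _)
    rintro b ⟨_, ⟨y, rfl⟩, hy⟩
    obtain ⟨σ, hσ⟩ := Groth.L22.GeomConn.exists_galAct_eq G.left b (i.left y) hy.symm
    exact hstab σ y b hσ
  haveI : IsReduced (F.obj L).left := isReduced_bc L
  obtain ⟨f, hf⟩ := exists_factor_range i (F.map l) hrange.le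
  obtain ⟨g, hg⟩ := exists_factor_range (F.map l) i hrange.ge
  have key : ∀ {T : Over (Spec (CommRingCat.of k))} (m : T ⟶ G) (z : F.obj T ⟶ N), z ≫ i = F.map m →
      ∃ z' : T ⟶ L, z' ≫ l = m := fun m z hz =>
    Groth.L08.Albanese.exists_factor_of_bc l m ⟨z ≫ g, by rw [Category.assoc, hg, hz]⟩
  obtain ⟨gL, hl⟩ := Groth.L08.exists_grpObj_of_mono l
    (key η[G] (1 : F.obj (𝟙_ _) ⟶ N) (by
      rw [show η[G] = (1 : 𝟙_ (Over (Spec (CommRingCat.of k))) ⟶ G) by
        rw [Hom.one_def, toUnit_unique (toUnit (𝟙_ _)) (𝟙 _), Category.id_comp], Functor.map_one, MonObj.one_comp]))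
    (key ((fst L L ≫ l) * (snd L L ≫ l)) ((F.map (fst L L) ≫ f) * (F.map (snd L L) ≫ f)) (by
      rw [MonObj.mul_comp, Category.assoc, Category.assoc, hf, Functor.map_mul, F.map_comp, F.map_comp]))
    (key l⁻¹ f⁻¹ (by rw [GrpObj.inv_comp, hf]; exact (map_inv (Functor.homMonoidHom F) l).symm))
  refine ⟨L, gL, l, hl, ‹_›, ‹_›, fun T a b => ?_, f, g, hf, hg⟩
  obtain ⟨n', hn'⟩ := hN (F.obj (G ⊗ L)) (F.map (fst G L)) (F.map (snd G L) ≫ f)
  obtain ⟨z', hz'⟩ := key (fst G L * (snd G L ≫ l) * (fst G L)⁻¹) n' (by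
    rw [← hn', Category.assoc, hf, ← F.map_comp, Functor.map_mul, Functor.map_mul]
    congr 1
    exact (map_inv (Functor.homMonoidHom F) (fst G L)).symm)
  refine ⟨lift a b ≫ z', ?_⟩
  have h2 := congrArg (fun m => lift a b ≫ m) hz'
  simp only [MonObj.comp_mul, GrpObj.comp_inv, lift_fst, lift_snd_assoc] at h2
  rw [Category.assoc, h2]

/-- **Chevalley's theorem over a perfect field**, existence. -/
theorem exists_chevalley [PerfectField k] (G : Over (Spec (CommRingCat.of k))) [GrpObj G] [Smooth G.hom]
    [QuasiCompact G.hom] [ConnectedSpace G.left] :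
    ∃ (L : Over (Spec (CommRingCat.of k))) (_ : GrpObj L) (l : L ⟶ G) (Q : Over (Spec (CommRingCat.of k))) (_ : GrpObj Q)
      (q : G ⟶ Q), IsMonHom l ∧ IsClosedImmersion l.left ∧ IsAffine L.left ∧ Smooth L.hom ∧ ConnectedSpace L.left ∧
      AlgGrp.IsNormalHom l ∧ IsMonHom q ∧ Surjective q.left ∧ Flat q.left ∧ LocallyOfFinitePresentation q.left ∧
      AlgGrp.IsKernel l q ∧ IsProper Q.hom ∧ Smooth Q.hom ∧ ConnectedSpace Q.left := by
  let t := AbVar.ext k (SeparableClosure k)
  haveI : PerfectField (SeparableClosure k) := Algebra.IsAlgebraic.perfectField (K := k)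
  haveI : IsAlgClosed (SeparableClosure k) := inferInstance
  haveI : Smooth (Red.bc t G).hom := smooth_bc G
  haveI : QuasiCompact (Red.bc t G).hom := inferInstanceAs (QuasiCompact (pullback.snd G.hom t))
  haveI : ConnectedSpace (Red.bc t G).left := connectedSpace_bc G
  obtain ⟨N, gN, i, ⟨_, _, _, _, _, hn⟩, hmax, -⟩ := Groth.Agent.S11398.result (SeparableClosure k) (Red.bc t G)
  haveI : IsReduced N.left := Groth.Agent.AV.isReduced_of_smooth_field N.hom
  obtain ⟨L, gL, l, _, _, _, hnL, f, g, hf, hg⟩ :=
    exists_descended G i hn (fun σ => galois_stable i hn hmax σ)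
  haveI : Mono l := Over.mono_of_mono_left l
  haveI : Mono i := Over.mono_of_mono_left i
  let F := Over.pullback t
  haveI : IsClosedImmersion (F.map l).left :=
    MorphismProperty.of_isPullback (P := @IsClosedImmersion) (Groth.L08.Albanese.isPullback_bc_map l).flip ‹_›
  haveI : Mono (F.map l) := Over.mono_of_mono_left _
  haveI hfi : IsIso f := ⟨g, by rw [← cancel_mono (F.map l), Category.assoc, hg, hf, Category.id_comp],
    by rw [← cancel_mono i, Category.assoc, hf, hg, Category.id_comp]⟩
  haveI : IsIso f.left := inferInstanceAs (IsIso ((Over.forget _).map f))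
  haveI : LocallyOfFiniteType L.hom := by rw [← Over.w l]; infer_instance
  haveI : IsAffine (Red.bc t L).left := IsAffine.of_isIso f.left
  haveI : IsAffineHom L.hom := descends (K := SeparableClosure k) @IsAffineHom L inferInstance
  haveI : IsAffine L.left := isAffine_of_isAffineHom L.hom
  haveI : Smooth L.hom := by
    letI : GrpObj (Over.mk L.hom) := gL
    exact Groth.L25.GrpDeriv.smooth_of_perfectField L.hom
  haveI hs : Surjective (CategoryTheory.inv f.left) := inferInstance
  haveI : Surjective t := ext_props.1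
  haveI : Surjective (pullback.fst L.hom t) := inferInstance
  haveI : ConnectedSpace (Red.bc t L).left := hs.1.connectedSpace (CategoryTheory.inv f.left).continuous
  haveI : ConnectedSpace L.left :=
    connectedSpace_iff_univ.2 ((pullback.fst L.hom t).surjective.range_eq ▸
      isConnected_range (α := (Red.bc t L).left) (pullback.fst L.hom t).continuous)
  obtain ⟨Y, p₀, _, _, _, sqp⟩ := GQuot.exists_quotient_field l
  obtain ⟨Q, q, _, _, _, sqq, hlft, -, hqc, hsm, -⟩ := GQuot.exists_struct p₀ sqp
  obtain ⟨gQ, _, hker⟩ := GQuot.exists_grp hnL q sqq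
  haveI := hlft inferInstance
  haveI := hqc inferInstance
  haveI := hsm inferInstance
  haveI : ConnectedSpace Q.left := q.left.surjective.connectedSpace q.left.continuous
  haveI : Smooth (Red.bc t Q).hom := smooth_bc Q
  haveI : QuasiCompact (Red.bc t Q).hom := inferInstanceAs (QuasiCompact (pullback.snd Q.hom t))
  haveI : ConnectedSpace (Red.bc t Q).left := connectedSpace_bc Q
  haveI : Surjective (F.map q).left :=
    MorphismProperty.of_isPullback (P := @Surjective) (Groth.L08.Albanese.isPullback_bc_map q).flip ‹_›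
  haveI : Flat (F.map q).left :=
    MorphismProperty.of_isPullback (P := @Flat) (Groth.L08.Albanese.isPullback_bc_map q).flip ‹_›
  have hkerK : AlgGrp.IsKernel i (F.map q) := by
    refine IsPullback.mk' ?_ (fun _ _ _ e _ => (cancel_mono i).1 e) fun T a b e => ?_
    · rw [← hg, Category.assoc, ← F.map_comp, hker.w, ← Hom.one_def, Functor.map_one, MonObj.comp_one, Hom.one_def]
    · obtain ⟨c, hc⟩ := Groth.L08.Albanese.exists_lift_bc l q hker a (by
        rw [e, toUnit_unique b (toUnit T), ← Hom.one_def])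
      exact ⟨c ≫ f, by rw [Category.assoc, hf, hc], toUnit_unique _ _⟩
  haveI hP : IsProper (Red.bc t Q).hom := isProper_of_kernel_gaff i hn hmax (F.map q) hkerK
  haveI : MorphismProperty.DescendsAlong @IsProper
      (@Surjective ⊓ @Flat ⊓ @QuasiCompact : MorphismProperty Scheme.{u}) := Groth.Agent.S0086.result
  exact ⟨L, gL, l, Q, gQ, q, ‹_›, ‹_›, ‹_›, ‹_›, ‹_›, hnL, ‹_›, ‹_›, ‹_›, ‹_›, hker,
    descends (K := SeparableClosure k) @IsProper Q hP, ‹_›, ‹_›⟩

/-- affine smooth connected subgroups lie in kernels of maps to proper groups -/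
theorem exists_factor_kernel {G Q L H : Over (Spec (CommRingCat.of k))} [GrpObj G] [GrpObj Q] [GrpObj H]
    [IsProper Q.hom] (l : L ⟶ G) (q : G ⟶ Q) [IsMonHom q] (hker : AlgGrp.IsKernel l q) (h : H ⟶ G) [IsMonHom h]
    [Smooth H.hom] [ConnectedSpace H.left] [IsAffine H.left] : ∃ f : H ⟶ L, f ≫ l = h := by
  obtain ⟨f, hf, -⟩ := hker.exists_lift h (toUnit H) (by rw [hom_to_proper_eq_one (h ≫ q), Hom.one_def])
  exact ⟨f, hf⟩

end Groth.L08.ChevPerf
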