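import Groth.Agent.L08.Chev.Gaff

/-!
# Functoriality of Chevalley decompositions under surjective homomorphisms
-/

set_option autoImplicit false
set_option backward.isDefEq.respectTransparency.types false
set_option linter.style.haveILetI false
set_option linter.unusedSectionVars false

universe u

open CategoryTheory CategoryTheory.Limits MonoidalCategory CartesianMonoidalCategory MonObj GrpObj AlgebraicGeometry
open Groth.L08.Chev

noncomputable section

namespace Groth.L08.ChevPerf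

variable {k : Type u} [Field k]

theorem quasiCompact_left {X Y : Over (Spec (CommRingCat.of k))} (f : X ⟶ Y) [QuasiCompact X.hom]
    [IsSeparated Y.hom] : QuasiCompact f.left := by
  haveI : QuasiCompact (f.left ≫ Y.hom) := by rw [Over.w]; infer_instance
  exact .of_comp f.left Y.hom

theorem lft_left {X Y : Over (Spec (CommRingCat.of k))} (f : X ⟶ Y) [LocallyOfFiniteType X.hom] :
    LocallyOfFiniteType f.left := by
  haveI : LocallyOfFiniteType (f.left ≫ Y.hom) := by rw [Over.w]; infer_instance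
  exact locallyOfFiniteType_of_comp f.left Y.hom

theorem lfp_left {X Y : Over (Spec (CommRingCat.of k))} (f : X ⟶ Y) [LocallyOfFiniteType X.hom]
    [LocallyOfFiniteType Y.hom] : LocallyOfFinitePresentation f.left := by
  haveI := lft_left f
  haveI : IsLocallyNoetherian Y.left := LocallyOfFiniteType.isLocallyNoetherian Y.hom
  exact LocallyOfFinitePresentation.iff_locallyOfFiniteType.2 inferInstance

/-- factor a homomorphism through a quotient -/
theorem exists_hom_desc {N G Q B : Over (Spec (CommRingCat.of k))} [GrpObj G] [GrpObj Q] [GrpObj B]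
    (i : N ⟶ G) (q : G ⟶ Q) [IsMonHom q] [Surjective q.left] [Flat q.left] [LocallyOfFinitePresentation q.left]
    (hker : AlgGrp.IsKernel i q) (φ : G ⟶ B) [IsMonHom φ] (h : i ≫ φ = 1) :
    ∃ ψ : Q ⟶ B, IsMonHom ψ ∧ q ≫ ψ = φ := by
  haveI : EffectiveEpi q.left := inferInstance
  obtain ⟨ψ, hψ, -⟩ := Groth.L25.Actions.existsUnique_desc q φ fun T g₁ g₂ e => by
    obtain ⟨z, hz, -⟩ := hker.exists_lift (g₁ * g₂⁻¹) (toUnit T) (by
      rw [MonObj.mul_comp, GrpObj.inv_comp, e, mul_inv_cancel, Hom.one_def])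
    rw [show g₁ = (z ≫ i) * g₂ by rw [hz, inv_mul_cancel_right], MonObj.mul_comp, Category.assoc, h,
      MonObj.comp_one, _root_.one_mul]
  haveI : Epi (q ⊗ₘ q) := by
    obtain ⟨_, _, _⟩ := GQuot.cover_tensor₂ q
    exact GQuot.epi_of_cover _
  exact ⟨ψ, ⟨by rw [← IsMonHom.one_hom (f := q), Category.assoc, hψ, IsMonHom.one_hom],
    by rw [← cancel_epi (q ⊗ₘ q), ← IsMonHom.mul_hom_assoc, hψ, IsMonHom.mul_hom, tensorHom_comp_tensorHom_assoc, hψ]⟩, hψ⟩

/-- the image of a normal subgroup under a faithfully flat homomorphism is normal -/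
theorem normal_image {G' G N M : Over (Spec (CommRingCat.of k))} [GrpObj G'] [GrpObj G] [GrpObj N] [GrpObj M]
    (i : N ⟶ G') (hn : AlgGrp.IsNormalHom i) (f : G' ⟶ G) [IsMonHom f] [Surjective f.left] [Flat f.left]
    [LocallyOfFinitePresentation f.left] (p : N ⟶ M) [Surjective p.left] [Flat p.left]
    [LocallyOfFinitePresentation p.left] (m : M ⟶ G) [Mono m] (hpm : p ≫ m = i ≫ f) : AlgGrp.IsNormalHom m := by
  obtain ⟨⟨_, _, _⟩, -⟩ := GQuot.cover_tensor f N
  obtain ⟨-, ⟨_, _, _⟩⟩ := GQuot.cover_tensor p G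
  haveI : EffectiveEpi ((f ▷ N) ≫ (G ◁ p)).left := by
    rw [Over.comp_left]; infer_instance
  obtain ⟨n', hn'⟩ := hn _ (fst G' N) (snd G' N)
  have hc : ((f ▷ N) ≫ (G ◁ p)) ≫ (fst G M * (snd G M ≫ m) * (fst G M)⁻¹) = (n' ≫ p) ≫ m := by
    rw [Category.assoc n', hpm, ← Category.assoc, ← hn']
    simp only [MonObj.comp_mul, MonObj.mul_comp, GrpObj.comp_inv, GrpObj.inv_comp, Category.assoc,
      whiskerLeft_fst, whiskerLeft_fst_assoc, whiskerRight_fst, whiskerRight_fst_assoc, whiskerLeft_snd_assoc,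
      whiskerRight_snd_assoc, hpm]
  obtain ⟨z, hz, -⟩ := Groth.L25.Actions.existsUnique_desc ((f ▷ N) ≫ (G ◁ p)) (n' ≫ p) fun T g₁ g₂ e => by
    rw [← cancel_mono m, Category.assoc g₁, Category.assoc g₂, ← hc, ← Category.assoc g₁, ← Category.assoc g₂, e]
  haveI : Epi ((f ▷ N) ≫ (G ◁ p)) := (Over.forget _).epi_of_epi_map (inferInstanceAs (Epi ((f ▷ N) ≫ (G ◁ p)).left))
  have hz' : z ≫ m = fst G M * (snd G M ≫ m) * (fst G M)⁻¹ := by
    rw [← cancel_epi ((f ▷ N) ≫ (G ◁ p)), ← Category.assoc, hz, hc]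
  intro T g x
  refine ⟨lift g x ≫ z, ?_⟩
  rw [Category.assoc, hz']
  simp only [MonObj.comp_mul, GrpObj.comp_inv, lift_fst, lift_snd_assoc]

/-- **Functoriality of Chevalley decompositions.** -/
theorem image_aff {G' G : Over (Spec (CommRingCat.of k))} [GrpObj G'] [GrpObj G]
    [Smooth G'.hom] [QuasiCompact G'.hom] [Smooth G.hom] [QuasiCompact G.hom]
    (f : G' ⟶ G) [IsMonHom f] [Surjective f.left]
    {N' : Over (Spec (CommRingCat.of k))} [GrpObj N'] (i' : N' ⟶ G') [IsMonHom i'] [IsClosedImmersion i'.left]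
    [Smooth N'.hom] [ConnectedSpace N'.left] [IsAffine N'.left]
    {A' : Over (Spec (CommRingCat.of k))} [GrpObj A'] (q' : G' ⟶ A') [IsMonHom q'] [Surjective q'.left] [Flat q'.left]
    [IsProper A'.hom] (hk' : AlgGrp.IsKernel i' q')
    {N : Over (Spec (CommRingCat.of k))} [GrpObj N] (i : N ⟶ G) [IsMonHom i] [IsClosedImmersion i.left]
    [Smooth N.hom] [ConnectedSpace N.left] [IsAffine N.left]
    {A : Over (Spec (CommRingCat.of k))} [GrpObj A] (q : G ⟶ A) [IsMonHom q] [Surjective q.left]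
    [IsProper A.hom] (hk : AlgGrp.IsKernel i q) :
    (∃ g : N' ⟶ N, IsMonHom g ∧ g ≫ i = i' ≫ f ∧ Surjective g.left) ∧
      (∃ h : A' ⟶ A, IsMonHom h ∧ q' ≫ h = f ≫ q ∧ Surjective h.left) := by
  haveI : Mono i := Over.mono_of_mono_left i
  haveI : IsSeparated G.hom := Groth.Agent.AV.isSeparated_of_grpObj G
  haveI := lfp_left q'
  haveI : LocallyOfFiniteType N'.hom := inferInstance
  have h1 : (i' ≫ f) ≫ q = 1 := hom_to_proper_eq_one ((i' ≫ f) ≫ q)
  obtain ⟨g, hg, -⟩ := hk.exists_lift (i' ≫ f) (toUnit N') (by rw [h1, Hom.one_def])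
  haveI : IsMonHom (g ≫ i) := by rw [hg]; infer_instance
  haveI := isMonHom_of_comp g i
  obtain ⟨h, hh, hqh⟩ := exists_hom_desc i' q' hk' (f ≫ q) (by rw [← Category.assoc, h1])
  haveI : Surjective (q'.left ≫ h.left) := by rw [← Over.comp_left, hqh, Over.comp_left]; infer_instance
  refine ⟨⟨g, ‹_›, hg, ?_⟩, h, hh, hqh, Surjective.of_comp q'.left h.left⟩
  haveI : IsReduced G.left := Groth.Agent.AV.isReduced_of_smooth_field G.hom
  haveI := Groth.L08.FlatHom.flat_of_surjective G' G f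
  haveI := lfp_left f
  haveI : QuasiCompact N'.hom := inferInstance
  obtain ⟨M, gM, p, m, _, _, hpm, _, _, _, _⟩ := Groth.L08.AbelianGrp.exists_image (i' ≫ f)
  haveI : Mono m := Over.mono_of_mono_left m
  haveI : LocallyOfFiniteType M.hom := by rw [← Over.w m]; infer_instance
  haveI : QuasiCompact M.hom := by rw [← Over.w m]; infer_instance
  have hn' : AlgGrp.IsNormalHom i' := Groth.L08.Albanese.isNormalHom_of_kernel hk'
  have hMn := normal_image i' hn' f p m hpm
  obtain ⟨Y, p₀, _, _, _, sqp⟩ := GQuot.exists_quotient_field m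
  obtain ⟨Q, π, _, _, _, sqq, hlft, -, hqc, -, hsep⟩ := GQuot.exists_struct p₀ sqp
  obtain ⟨gQ, _, hkerπ⟩ := GQuot.exists_grp hMn π sqq
  haveI := hlft inferInstance
  haveI := hqc inferInstance
  haveI := hsep inferInstance
  obtain ⟨ψ, hψm, hψ⟩ := exists_hom_desc i' q' hk' (f ≫ π) (by
    rw [← Category.assoc, ← hpm, Category.assoc, hkerπ.w, ← Hom.one_def, MonObj.comp_one])
  haveI : Surjective ψ.left := by
    haveI : Surjective (q'.left ≫ ψ.left) := by rw [← Over.comp_left, hψ, Over.comp_left]; infer_instance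
    exact Surjective.of_comp q'.left ψ.left
  haveI : IsProper Q.hom := isProper_of_surjective ψ
  obtain ⟨l, hl, -⟩ := hkerπ.exists_lift i (toUnit N) (by rw [hom_to_proper_eq_one (i ≫ π), Hom.one_def])
  obtain ⟨S3, hS1, hS2⟩ := Groth.Agent.S7983.result k N' M p
  haveI := S3 inferInstance
  haveI := hS1 inferInstance
  haveI := hS2 inferInstance
  obtain ⟨r, hr, -⟩ := hk.exists_lift m (toUnit M) (by rw [hom_to_proper_eq_one (m ≫ q), Hom.one_def])
  have hlr : l ≫ r = 𝟙 N := by rw [← cancel_mono i, Category.assoc, hr, hl, Category.id_comp]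
  haveI : Surjective r.left := by
    haveI : Surjective (l.left ≫ r.left) := by rw [← Over.comp_left, hlr, Over.id_left]; infer_instance
    exact Surjective.of_comp l.left r.left
  have hg' : g = p ≫ r := by rw [← cancel_mono i, Category.assoc, hr, hpm, hg]
  rw [hg', Over.comp_left]; infer_instance

end Groth.L08.ChevPerf
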